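import Groth.Agent.Sga4h.EtaleRes
import Groth.Agent.Etcore.ShriekBasic
import Groth.Agent.Sga4h.LerayAcyc
import Groth.Agent.Vancyc.H679.PropMulti
import Groth.Agent.Etcore.HpVia
import Groth.Agent.Etcore.HQ
import Groth.Agent.Etcore.HpullEq
import Groth.Agent.EtpbcB.GeomPointIndep

/-!
# `|H^n(U, F)| ≤ |H^n(Y, F)| · |(R^n j_* F)_y|` for the complement `U` of a point
-/

set_option autoImplicit false
universe u

open CategoryTheory CategoryTheory.Limits AlgebraicGeometry Opposite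

namespace Groth.Agent.Lefpen.H936.GlobB

open Groth.Agent.Vancyc.H679

/-- A general inequality. -/
theorem card_le_of_ker {A B C : Type*} [AddCommGroup A] [AddCommGroup B] [AddCommGroup C]
    (α : A →+ B) (φ : B →+ C) (h : φ.ker = α.range) [Finite A] [Finite C] :
    Finite B ∧ Nat.card B ≤ Nat.card A * Nat.card C := by
  have h1 : Finite φ.ker := by rw [h]; exact Finite.of_surjective _ α.rangeRestrict_surjective
  have h2 : Finite φ.range := inferInstance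
  have h3 : Nat.card B = Nat.card φ.ker * Nat.card φ.range := by
    rw [← Nat.card_congr (QuotientAddGroup.quotientKerEquivRange φ).toEquiv, mul_comm]
    exact AddSubgroup.card_eq_card_quotient_mul_card_addSubgroup φ.ker
  have h4 : Nat.card φ.ker ≤ Nat.card A := by
    rw [h]; exact Nat.card_le_card_of_surjective _ α.rangeRestrict_surjective
  have h5 : Nat.card φ.range ≤ Nat.card C :=
    Nat.card_le_card_of_injective _ (Subtype.val_injective (p := fun x => x ∈ φ.range))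
  have h6 : 0 < Nat.card φ.ker := Nat.card_pos
  have h7 : 0 < Nat.card φ.range := Nat.card_pos
  refine ⟨Nat.finite_of_card_ne_zero (by rw [h3]; exact (Nat.mul_pos h6 h7).ne'), ?_⟩
  rw [h3]
  exact Nat.mul_le_mul h4 h5

/-- `j^* R^q j_* = 0` for an open immersion and `q > 0`. -/
theorem isZero_pull_Rpush {X₁ X : Scheme.{u}} (j : X₁ ⟶ X) [IsOpenImmersion j] (G : EtCoh.Ab X₁)
    (q : ℕ) (hq : 0 < q) : IsZero ((EtCoh.pull j).obj ((EtCoh.Rpush j q).obj G)) := by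
  have := Groth.Agent.Sga4h.EtaleRes.jCont j
  have h2 := Groth.Agent.Etcore.ShriekBasic.isIso_pullPushAdj_counit j
  let e : EtCoh.push j ⋙ EtCoh.pull j ≅ 𝟭 _ := asIso (EtCoh.pullPushAdj j).counit
  let e' : (EtCoh.pull j).obj ((EtCoh.Rpush j q).obj G) ≅ ((𝟭 (EtCoh.Ab X₁)).rightDerived q).obj G :=
    (Sga4h.LerayAcyc.rightDerivedExactIso (EtCoh.push j) (EtCoh.pull j) G q).symm ≪≫
      (Sga4h.LerayAcyc.rightDerivedCongr e q).app G
  obtain ⟨q, rfl⟩ := Nat.exists_eq_succ_of_ne_zero hq.ne'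
  exact (Etbase.PushExact.isZero_rightDerived_of_exact (𝟭 _) G q).of_iso e'

/-- `j^*` of the unit of an open immersion is an isomorphism. -/
theorem isIso_pull_unit {X₁ X : Scheme.{u}} (j : X₁ ⟶ X) [IsOpenImmersion j] (G : EtCoh.Ab X) :
    IsIso ((EtCoh.pull j).map ((EtCoh.pullPushAdj j).unit.app G)) := by
  have := Groth.Agent.Sga4h.EtaleRes.jCont j
  have h2 := Groth.Agent.Etcore.ShriekBasic.isIso_pullPushAdj_counit j
  have h3 := (EtCoh.pullPushAdj j).left_triangle_components G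
  have h4 : IsIso ((EtCoh.pull j).map ((EtCoh.pullPushAdj j).unit.app G) ≫
      (EtCoh.pullPushAdj j).counit.app ((EtCoh.pull j).obj G)) := by
    rw [h3]
    exact IsIso.id _
  exact IsIso.of_isIso_comp_right _ ((EtCoh.pullPushAdj j).counit.app ((EtCoh.pull j).obj G))

theorem pbci_id (Y : Scheme.{u}) [PreservesFiniteLimits (EtCoh.pull (𝟙 Y))] : PropLES.PBCi (𝟙 Y) :=
  fun P _ q => (Groth.Agent.Etcore.HpullCalc.bijective_Hpull_iff (𝟙 Y) P q).2
    (Groth.Agent.Etcore.HpVia.hp_id_bijective Y P q)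

variable {U Y : Scheme.{u}} (j : U ⟶ Y) [IsOpenImmersion j] {Ω : Type u} [Field Ω] [IsSepClosed Ω]

theorem exists_lift (ξ : Spec (CommRingCat.of Ω) ⟶ Y) (hx : ξ default ∈ Set.range j) :
    ∃ η : Spec (CommRingCat.of Ω) ⟶ U, η ≫ j = ξ := by
  have h : Set.range ξ ⊆ Set.range j := by
    rintro _ ⟨t, rfl⟩
    rwa [Subsingleton.elim t default]
  exact ⟨IsOpenImmersion.lift j ξ h, IsOpenImmersion.lift_fac j ξ h⟩

theorem isZero_stalk (ξ : Spec (CommRingCat.of Ω) ⟶ Y) (hx : ξ default ∈ Set.range j) (G : EtCoh.Ab U)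
    (q : ℕ) (hq : 0 < q) : IsZero ((EtCoh.stalk ξ).obj ((EtCoh.Rpush j q).obj G)) := by
  obtain ⟨η, rfl⟩ := exists_lift j ξ hx
  have h := (EtCoh.stalk η).map_isZero (isZero_pull_Rpush j G q hq)
  exact h.of_iso ((Etbase.StalkPull.stalkPullIso j η).app _)

theorem isIso_stalk (ξ : Spec (CommRingCat.of Ω) ⟶ Y) (hx : ξ default ∈ Set.range j) (F : EtCoh.Ab Y) :
    IsIso ((EtCoh.stalk ξ).map ((EtCoh.pullPushAdj j).unit.app F)) := by
  obtain ⟨η, rfl⟩ := exists_lift j ξ hx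
  have h1 := isIso_pull_unit j F
  rw [NatIso.isIso_map_iff (Etbase.StalkPull.stalkPullIso j η)]
  change IsIso ((EtCoh.stalk η).map ((EtCoh.pull j).map _))
  infer_instance

theorem good (F : EtCoh.Ab Y) [PreservesFiniteLimits (EtCoh.pull (𝟙 Y))] [PreservesFiniteLimits (EtCoh.pull j)]
    (x : Y) (hx : x ∈ Set.range j) : PropLES.Good (𝟙 Y) j F x := by
  intro Ω _ _ ξ hξ
  have h0 : (ξ ≫ 𝟙 Y) default ∈ Set.range j := by
    rw [Category.comp_id, hξ]; exact hx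
  constructor
  · have h1 := isIso_stalk j (ξ ≫ 𝟙 Y) h0 F
    rw [NatIso.isIso_map_iff (Etbase.StalkPull.stalkPullIso (𝟙 Y) ξ)] at h1
    exact h1
  · intro q hq
    exact (isZero_stalk j (ξ ≫ 𝟙 Y) h0 ((EtCoh.pull j).obj F) q hq).of_iso
      ((Etbase.StalkPull.stalkPullIso (𝟙 Y) ξ).app _).symm

/-- `|H^n(U, F)| ≤ |H^n(Y, F)| · |(R^n j_* F)_y|`. -/
theorem card_le (y : Y) (hy : IsClosed ({y} : Set Y)) (hj : Set.range j = ({y} : Set Y)ᶜ)
    (hs : IsSepClosed (Y.residueField y)) [PreservesFiniteLimits (EtCoh.pull j)]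
    (F : EtCoh.Ab Y) {N : ℕ} (hN : 0 < N) (hF : EtCoh.KilledBy N F) (n : ℕ) (hn : n ≠ 0)
    (ξ : Spec (CommRingCat.of Ω) ⟶ Y) (hξ : ξ default = y)
    [Finite (EtCoh.H Y F n)]
    [Finite ((EtCoh.stalk ξ).obj ((EtCoh.Rpush j n).obj ((EtCoh.pull j).obj F)))] :
    Finite (EtCoh.H U ((EtCoh.pull j).obj F) n) ∧ Nat.card (EtCoh.H U ((EtCoh.pull j).obj F) n) ≤
      Nat.card (EtCoh.H Y F n) *
        Nat.card ((EtCoh.stalk ξ).obj ((EtCoh.Rpush j n).obj ((EtCoh.pull j).obj F))) := by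
  have hp : PreservesFiniteLimits (EtCoh.pull (𝟙 Y)) := Groth.Agent.Etcore.HQ.pfl (𝟙 Y)
  classical
  have hgeo : ∀ x : Y, ∃ (Ω : Type u) (_ : Field Ω) (_ : IsSepClosed Ω)
      (ξ : Spec (CommRingCat.of Ω) ⟶ Y), ξ default = x := fun x => Etcore.Stalks.exists_geom x
  choose Ω' i1 i2 ξ' hξ' using hgeo
  obtain ⟨κ, φ, ψ, -, -, h1, -, -⟩ := PropMulti.main (𝟙 Y) j F (pbci_id Y) {y}
    (by simpa using hy) (by simpa using hs) hN hF
    (fun x hx => good j F x (by rw [hj]; simpa using hx)) Ω' ξ' hξ'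
  obtain ⟨n, rfl⟩ := Nat.exists_eq_succ_of_ne_zero hn
  obtain ⟨e⟩ := Groth.Agent.EtpbcB.GeomPointIndep.nonempty_stalkIso (ξ' y ≫ 𝟙 Y) ξ
    (by rw [Category.comp_id, hξ', hξ])
  let G := (EtCoh.Rpush j (n + 1)).obj ((EtCoh.pull j).obj F)
  let e1 : ((EtCoh.stalk (ξ' y)).obj ((EtCoh.pull (𝟙 Y)).obj G) : Type (u + 1)) ≃+
      ((EtCoh.stalk ξ).obj G : Type (u + 1)) :=
    (((Etbase.StalkPull.stalkPullIso (𝟙 Y) (ξ' y)).app G).symm ≪≫ e.app G).addCommGroupIsoToAddEquiv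
  let ev : (∀ x : ({y} : Finset Y), (PropMulti.Phi (𝟙 Y) j F (n + 1) (ξ' x) : Type (u + 1))) →+
      ((EtCoh.stalk (ξ' y)).obj ((EtCoh.pull (𝟙 Y)).obj G) : Type (u + 1)) :=
    Pi.evalAddMonoidHom _ (⟨y, Finset.mem_singleton_self y⟩ : ({y} : Finset Y))
  have hev : Function.Injective ev := by
    intro a b h
    funext ⟨x, hx⟩
    obtain rfl := Finset.mem_singleton.1 hx
    exact h
  let φ' := (e1.toAddMonoidHom.comp ev).comp (φ (n + 1))
  have hφ' : φ'.ker = (EtCore.Hpull j F (n + 1)).range := by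
    rw [← h1 (n + 1)]
    ext x
    simp only [AddMonoidHom.mem_ker]
    constructor
    · intro h
      have h2 : ev (φ (n + 1) x) = 0 := e1.injective (by rw [map_zero]; exact h)
      exact hev (by rw [map_zero]; exact h2)
    · intro h
      change e1 (ev (φ (n + 1) x)) = 0
      rw [h, map_zero, map_zero]
  exact card_le_of_ker _ φ' hφ'

end Groth.Agent.Lefpen.H936.GlobB
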