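import Groth.Agent.Etrest.LqfNat
import Groth.Agent.Etcore.StalkUnit
import Groth.Agent.Etcore.PullCoh
import Groth.Agent.Etcore.Stalks

/-!
# Stalks of inverse images through stalks of direct images

`kap f ξ h G : G_η ⟶ (f^* G)_ξ` for `ξ ≫ f = η`, defined as the unit followed by `(f_* H)_η ⟶ H_ξ`;
it is an isomorphism, natural, compatible with composition.
-/

set_option autoImplicit false
universe u

open CategoryTheory CategoryTheory.Limits AlgebraicGeometry Opposite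

namespace Groth.Agent.Lefpen.H936.Kap

open Groth.Agent.Etrest Groth.Agent.Etrest.LqfStalk Groth.Agent.Etrest.LqfNat Groth.Agent.Etcore
open Groth.Agent.Etcore.PullCoh

variable {X Y Z : Scheme.{u}}

section

variable (f : X ⟶ Y) {Ω : Type u} [Field Ω] [IsAlgClosed Ω]
  {η : Spec (CommRingCat.of Ω) ⟶ Y} (ξ : Spec (CommRingCat.of Ω) ⟶ X) (h : ξ ≫ f = η)

/-- The stalk comparison `G_η ⟶ (f^* G)_ξ`. -/
noncomputable def kap (G : EtCoh.Ab Y) :
    (EtCoh.stalk η).obj G ⟶ (EtCoh.stalk ξ).obj ((EtCoh.pull f).obj G) :=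
  (EtCoh.stalk η).map ((EtCoh.pullPushAdj f).unit.app G) ≫ (pushStalk f ξ h).app _

theorem kap_nat {G H : EtCoh.Ab Y} (a : G ⟶ H) :
    (EtCoh.stalk η).map a ≫ kap f ξ h H = kap f ξ h G ≫ (EtCoh.stalk ξ).map ((EtCoh.pull f).map a) := by
  have h1 := (pushStalk f ξ h).naturality ((EtCoh.pull f).map a)
  have h2 : a ≫ (EtCoh.pullPushAdj f).unit.app H =
      (EtCoh.pullPushAdj f).unit.app G ≫ (EtCoh.push f).map ((EtCoh.pull f).map a) :=
    (EtCoh.pullPushAdj f).unit.naturality a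
  unfold kap
  rw [Category.assoc, ← h1, ← Category.assoc, ← Functor.map_comp, ← Category.assoc, h2,
    Functor.map_comp]
  rfl

/-- `(f_* H)_η ⟶ H_ξ` after a map `G ⟶ f_* H`. -/
theorem push_homEquiv {G : EtCoh.Ab Y} {H : EtCoh.Ab X} (a : (EtCoh.pull f).obj G ⟶ H) :
    (EtCoh.stalk η).map ((EtCoh.pullPushAdj f).homEquiv G H a) ≫ (pushStalk f ξ h).app H =
      kap f ξ h G ≫ (EtCoh.stalk ξ).map a := by
  have h1 := (pushStalk f ξ h).naturality a
  unfold kap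
  rw [Category.assoc, ← h1, Adjunction.homEquiv_unit, Functor.map_comp, Category.assoc]
  rfl

theorem push_eq (H : EtCoh.Ab X) :
    (pushStalk f ξ h).app H =
      kap f ξ h ((EtCoh.push f).obj H) ≫ (EtCoh.stalk ξ).map ((EtCoh.pullPushAdj f).counit.app H) := by
  rw [← push_homEquiv, Adjunction.homEquiv_unit, Adjunction.right_triangle_components,
    CategoryTheory.Functor.map_id, Category.id_comp]
  rfl

/-- `kap` on germs. -/
theorem kap_germ (G : EtCoh.Ab Y) (V : Y.Etale) (v : (Scheme.pointSmallEtale η).fiber.obj V)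
    (s : EtCoh.sect G V) :
    kap f ξ h G (Stalks.germ η G v s) =
      Stalks.germ ξ ((EtCoh.pull f).obj G) (U := (EtCoh.bc f).obj V) (pt f ξ h V v) (eta f G V s) := by
  have h1 := Stalks.germ_map η ((EtCoh.pullPushAdj f).unit.app G) v s
  have h2 := ConcreteCategory.congr_hom
    (toPresheafFiber_pushStalkApp f ξ h ((EtCoh.pull f).obj G) V v) (eta f G V s)
  exact (congrArg (fun z => (pushStalk f ξ h).app _ z) h1).trans h2

end

section Iso

variable (f : X ⟶ Y) {Ω : Type u} [Field Ω] [IsAlgClosed Ω]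

theorem kap_rfl (ξ : Spec (CommRingCat.of Ω) ⟶ X) (G : EtCoh.Ab Y) :
    kap f ξ rfl G = (Etbase.StalkPull.stalkPullIso f ξ).hom.app G := by
  refine ConcreteCategory.hom_ext _ _ fun p => ?_
  obtain ⟨V, v, s, rfl⟩ := Stalks.exists_germ (ξ ≫ f) G p
  rw [kap_germ]
  exact (StalkUnit.stalkPullIso_hom_germ f ξ G v s).symm

instance isIso_kap {η : Spec (CommRingCat.of Ω) ⟶ Y} (ξ : Spec (CommRingCat.of Ω) ⟶ X) (h : ξ ≫ f = η)
    (G : EtCoh.Ab Y) : IsIso (kap f ξ h G) := by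
  subst h
  rw [kap_rfl]
  infer_instance

end Iso

section Comp

variable (f : X ⟶ Y) (t : Y ⟶ Z) (f₀ : X ⟶ Z) (w : f ≫ t = f₀) {Ω : Type u} [Field Ω] [IsAlgClosed Ω]
  (ξ : Spec (CommRingCat.of Ω) ⟶ X) {ζ : Spec (CommRingCat.of Ω) ⟶ Y} (h₁ : ξ ≫ f = ζ)
  {η : Spec (CommRingCat.of Ω) ⟶ Z} (h₂ : ζ ≫ t = η) (h₀ : ξ ≫ f₀ = η)

theorem pt_comp (V : Z.Etale) (v : (Scheme.pointSmallEtale η).fiber.obj V) :
    (Scheme.pointSmallEtale ξ).fiber.map (bcComp f t f₀ w V)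
      (pt f ξ h₁ ((EtCoh.bc t).obj V) (pt t ζ h₂ V v)) = pt f₀ ξ h₀ V v := by
  refine Over.OverMorphism.ext ?_
  change Supp.ptMap (pt f ξ h₁ ((EtCoh.bc t).obj V) (pt t ζ h₂ V v)) ≫ (bcComp f t f₀ w V).left =
    Supp.ptMap (pt f₀ ξ h₀ V v)
  apply pullback.hom_ext
  · refine (Category.assoc _ _ _).trans ?_
    refine (congrArg (fun k => _ ≫ k) (bcComp_left_fst f t f₀ w V)).trans ?_
    refine (Category.assoc _ _ _).symm.trans ?_
    refine (congrArg (fun k => k ≫ pullback.fst V.hom t)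
      (ptMap_pt_fst f ξ h₁ ((EtCoh.bc t).obj V) (pt t ζ h₂ V v))).trans ?_
    exact (ptMap_pt_fst t ζ h₂ V v).trans (ptMap_pt_fst f₀ ξ h₀ V v).symm
  · refine (Category.assoc _ _ _).trans ?_
    refine (congrArg (fun k => _ ≫ k) (MorphismProperty.Over.w (bcComp f t f₀ w V))).trans ?_
    exact (ptMap_pt_snd f ξ h₁ ((EtCoh.bc t).obj V) (pt t ζ h₂ V v)).trans
      (ptMap_pt_snd f₀ ξ h₀ V v).symm

/-- Compatibility of `kap` with composition. -/
theorem kap_comp (G : EtCoh.Ab Z) :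
    kap t ζ h₂ G ≫ kap f ξ h₁ ((EtCoh.pull t).obj G) ≫ (EtCoh.stalk ξ).map (th f t f₀ w G) =
      kap f₀ ξ h₀ G := by
  refine ConcreteCategory.hom_ext _ _ fun p => ?_
  obtain ⟨V, v, s, rfl⟩ := Stalks.exists_germ η G p
  rw [kap_germ]
  change (EtCoh.stalk ξ).map (th f t f₀ w G) (kap f ξ h₁ ((EtCoh.pull t).obj G) (kap t ζ h₂ G _)) = _
  rw [kap_germ, kap_germ, Stalks.germ_map, th_unit, Stalks.germ_res, pt_comp f t f₀ w ξ h₁ h₂ h₀]

end Comp

end Groth.Agent.Lefpen.H936.Kap
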