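import Groth.Agent.Etcore.HQ
import Groth.Agent.Vancyc.H684.UnifEt
import Groth.Agent.Etrest.ConstBasic

/-!
# Uniform bound for `H^i(T, ℤ/ℓ^v)` when it is killed by `2`
-/

set_option autoImplicit false
universe u

open CategoryTheory CategoryTheory.Limits AlgebraicGeometry Opposite Abelian
open scoped Groth.Agent.Etcore.EtInst
open Groth.Agent.Etcore.EtInst

namespace Groth.Agent.Lefpen.H936.LocBound

open Groth.Agent.Etcore Groth.Agent.Vancyc.H684.UnifEt

section Grp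

variable {V N P Q : Type*} [AddCommGroup V] [AddCommGroup N] [AddCommGroup P] [AddCommGroup Q]

theorem card_le_of_maps [Finite V] [Finite N] [Finite P] [Finite Q] (a : N →+ V) (p : V →+ P) (r : V →+ N)
    (d : N →+ Q) (h1 : ∀ x, p x = 0 → ∃ y, a y = x) (h2 : ∀ y, d y = 0 → ∃ x, r x = y)
    (h3 : ∀ x, a (r x) = 0) : Nat.card V ≤ Nat.card P * Nat.card Q := by
  have e1 : Nat.card p.ker * Nat.card p.range = Nat.card V := by
    rw [← AddSubgroup.index_ker, AddSubgroup.card_mul_index]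
  have e2 : Nat.card p.ker ≤ Nat.card a.range := by
    refine Nat.card_le_card_of_injective (fun x : p.ker => (⟨x.1, h1 x.1 x.2⟩ : a.range)) ?_
    intro x y hxy
    have h4 : x.1 = y.1 := congrArg (fun z : a.range => z.1) hxy
    exact Subtype.ext h4
  have e3 : Nat.card a.range ≤ Nat.card d.range := by
    rw [← AddSubgroup.index_ker, ← AddSubgroup.index_ker]
    refine Nat.le_of_dvd (Nat.pos_of_ne_zero AddSubgroup.index_ne_zero_of_finite)
      (AddSubgroup.index_dvd_of_le fun y hy => ?_)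
    obtain ⟨x, rfl⟩ := h2 y hy
    exact h3 x
  have e4 : Nat.card d.range ≤ Nat.card Q :=
    Nat.card_le_card_of_injective (fun x : d.range => x.1) Subtype.val_injective
  have e5 : Nat.card p.range ≤ Nat.card P :=
    Nat.card_le_card_of_injective (fun x : p.range => x.1) Subtype.val_injective
  rw [← e1, mul_comm]
  exact Nat.mul_le_mul e5 (e2.trans (e3.trans e4))

end Grp

attribute [local instance] HQ.pfl

/-- Exactness in the middle. -/
theorem exists_map_f_eq {X : Scheme.{u}} {S : ShortComplex (EtCoh.Ab X)} (hS : S.ShortExact) {Z : Scheme.{u}}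
    (q : Z ⟶ X) (n : ℕ) (x : HQ.HQ S.X₂ q n) (h : HQ.map S.g q n x = 0) :
    ∃ y : HQ.HQ S.X₁ q n, HQ.map S.f q n y = x :=
  (ExtMap.exact_fg (hS.map_of_exact (EtCoh.pull q)) (EtCoh.const Z ℤ) n x).1 h

variable {S T : Scheme.{u}} (q : T ⟶ S)

/-- Cohomology with constant coefficients. -/
noncomputable abbrev HC (M : Type) [AddCommGroup M] (i : ℕ) : Type (u + 1) := HQ.HQ (EtCoh.const S M) q i

/-- Functoriality in the coefficients. -/
noncomputable def cmap {M M' : Type} [AddCommGroup M] [AddCommGroup M'] (f : M →+ M') (i : ℕ) :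
    HC q M i →+ HC q M' i := HQ.map (cm S f) q i

theorem cmap_comp {M M' M'' : Type} [AddCommGroup M] [AddCommGroup M'] [AddCommGroup M''] (f : M →+ M')
    (g : M' →+ M'') (i : ℕ) (x : HC q M i) : cmap q g i (cmap q f i x) = cmap q (g.comp f) i x := by
  unfold cmap
  rw [HQ.map_apply, HQ.map_apply, HQ.map_apply, cm_comp, Functor.map_comp, HHmap_comp]

theorem cmap_nsmul_id {M : Type} [AddCommGroup M] (n i : ℕ) (x : HC q M i) :
    cmap q (n • AddMonoidHom.id M) i x = n • x := by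
  unfold cmap
  rw [HQ.map_apply, cm_nsmul_id, Functor.map_nsmul, CategoryTheory.Functor.map_id, HHmap_nsmul_id]

theorem nsmul_eq_zero (N : ℕ) (i : ℕ) (x : HC q (ZMod N) i) : N • x = 0 := by
  rw [← cmap_nsmul_id]
  have : (N • AddMonoidHom.id (ZMod N)) = 0 := by
    ext
    simp
  rw [this]
  unfold cmap
  rw [HQ.map_apply, cm_zero, Functor.map_zero, HHmap_apply, Ext.mk₀_zero, Ext.comp_zero]

theorem card_le_two (i N : ℕ) (hfin : ∀ v i : ℕ, Finite (HC q (ZMod (2 ^ v)) i))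
    (h2 : ∀ (v : ℕ) (x : HC q (ZMod (2 ^ v)) i), (2 : ℕ) • x = 0) :
    Nat.card (HC q (ZMod (2 ^ (1 + N))) i) ≤
      Nat.card (HC q (ZMod (2 ^ 1)) i) * Nat.card (HC q (ZMod (2 ^ 1)) (i + 1)) := by
  -- the connecting map of `0 → ℤ/2 → ℤ/2^V → ℤ/2^N → 0`
  obtain ⟨d, hd⟩ : ∃ d : HC q (ZMod (2 ^ N)) i →+ HC q (ZMod (2 ^ 1)) (i + 1),
      ∀ y, d y = 0 → ∃ x : HC q (ZMod (2 ^ (1 + N))) i,
        cmap q (zr 2 (Nat.le_add_left N 1)) i x = y := by
    have key : ∀ V : ℕ, V = N + 1 → ∀ h : N ≤ V, ∃ d : HC q (ZMod (2 ^ N)) i →+ HC q (ZMod (2 ^ 1)) (i + 1),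
      ∀ y, d y = 0 → ∃ x : HC q (ZMod (2 ^ V)) i, cmap q (zr 2 h) i x = y := by
      rintro _ rfl h
      refine ⟨HQ.δ (hsc S 2 two_pos N 1) q i, fun y hy => ?_⟩
      exact HQ.exists_map_eq (hsc S 2 two_pos N 1) q i y hy
    exact key (1 + N) (Nat.add_comm 1 N) _
  have := hfin (1 + N) i
  have := hfin N i
  have := hfin 1 i
  have := hfin 1 (i + 1)
  refine card_le_of_maps (cmap q (za 2 1 N) i) (cmap q (zr 2 (Nat.le_add_right 1 N)) i)
    (cmap q (zr 2 (Nat.le_add_left N 1)) i) d (fun x hx => ?_) hd (fun x => ?_)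
  · exact exists_map_f_eq (hsc S 2 two_pos 1 N) q i x hx
  · rw [cmap_comp, za_zr, cmap_nsmul_id, pow_one, h2]

theorem card_le (ℓ : ℕ) [hp : Fact ℓ.Prime] (i : ℕ) (hfin : ∀ v i : ℕ, Finite (HC q (ZMod (ℓ ^ v)) i))
    (h2 : ∀ (v : ℕ) (x : HC q (ZMod (ℓ ^ v)) i), (2 : ℕ) • x = 0) (v : ℕ) :
    Nat.card (HC q (ZMod (ℓ ^ v)) i) ≤
      Nat.card (HC q (ZMod (ℓ ^ 1)) i) * Nat.card (HC q (ZMod (ℓ ^ 1)) (i + 1)) := by
  have f1 := hfin 1 i
  have f2 := hfin 1 (i + 1)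
  have hpos : 1 ≤ Nat.card (HC q (ZMod (ℓ ^ 1)) i) * Nat.card (HC q (ZMod (ℓ ^ 1)) (i + 1)) :=
    Nat.mul_pos Nat.card_pos Nat.card_pos
  have hone : (∀ x : HC q (ZMod (ℓ ^ v)) i, x = 0) → Nat.card (HC q (ZMod (ℓ ^ v)) i) ≤ 1 := by
    intro h
    have : Subsingleton (HC q (ZMod (ℓ ^ v)) i) := ⟨fun a b => (h a).trans (h b).symm⟩
    exact Finite.card_le_one_iff_subsingleton.2 this
  by_cases hℓ : ℓ = 2
  · subst hℓ
    rcases v with _ | N
    · refine (hone fun x => ?_).trans hpos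
      have h3 := nsmul_eq_zero q (2 ^ 0) i x
      have h4 : (1 : ℕ) • x = 0 := h3
      rwa [one_smul] at h4
    · rw [Nat.add_comm N 1]
      exact card_le_two q i N hfin h2
  · refine (hone fun x => ?_).trans hpos
    have h3 := nsmul_eq_zero q (ℓ ^ v) i x
    have hc : Nat.Coprime 2 (ℓ ^ v) := Nat.Coprime.pow_right v
      ((Nat.coprime_primes Nat.prime_two hp.out).2 (Ne.symm hℓ))
    have h4 := h2 v x
    have h5 : addOrderOf x ∣ 2 := addOrderOf_dvd_of_nsmul_eq_zero h4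
    have h6 : addOrderOf x ∣ ℓ ^ v := addOrderOf_dvd_of_nsmul_eq_zero h3
    have h7 : addOrderOf x ∣ 1 := by
      have := Nat.dvd_gcd h5 h6
      rwa [hc.gcd_eq_one] at this
    exact AddMonoid.addOrderOf_eq_one_iff.1 (Nat.dvd_one.1 h7)

end Groth.Agent.Lefpen.H936.LocBound
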